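import Cfsg.Agent.Lib.Helper3.J1o.L1D
import Cfsg.Agent.Lib.Helper3.J1o.Net

set_option autoImplicit false
set_option maxRecDepth 100000

namespace Cfsg.Agent.Lib.Helper3.J1o.L1

open Cfsg.Agent.Lib.Helper11 Cfsg.Agent.Lib.Helper3

set_option maxHeartbeats 0
set_option Elab.async false

noncomputable def fc (i : ℕ) : ℕ := (Bool.rec (fc0_0 i) (fc0_1 i) (Nat.ble 16 i))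
noncomputable def sc (i : ℕ) : ℕ := (Bool.rec (sc0_0 i) (sc0_1 i) (Nat.ble 16 i))
noncomputable def nc (i : ℕ) : ℕ := (nc0_0 i)
noncomputable def cc (i : ℕ) : ℕ := (Bool.rec (Bool.rec (cc0_0 i) (cc0_1 i) (Nat.ble 16 i)) (Bool.rec (cc0_2 i) (cc0_3 i) (Nat.ble 48 i)) (Nat.ble 32 i))

def isH (l : ℕ) : Bool := decide (l ∈ [4, 5])
def gens : List ℕ := [1, 2]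
def hl : List ℕ := [4, 5]
def dl : List (List ℕ × ℕ) := [([2], 3), ([1], 4), ([2, 1, 3, 1, 2, 1, 3, 1, 3, 1, 2, 1, 3, 1, 2, 1, 2, 1, 3], 6), ([6], 5)]
def BR_0 : List (List ℕ) := [[], [1, 4], [2, 1, 3, 1, 2, 1, 3, 1, 3, 1, 2, 1, 3, 1, 2, 1, 2, 1, 3, 6], [2, 2, 2], [3, 3, 3], [1, 2, 1, 2, 1, 2, 1, 2, 1, 2, 1, 2, 1, 2], [1, 3, 1, 3, 1, 3, 1, 3, 1, 3, 1, 3, 1, 3], [1, 2, 2, 1, 2, 2, 1, 2, 2, 1, 2, 2, 1, 2, 2, 1, 2, 2, 1, 2, 2], [1, 3, 3, 1, 3, 3, 1, 3, 3, 1, 3, 3, 1, 3, 3, 1, 3, 3, 1, 3, 3], [1, 2, 2, 2, 1, 2, 2, 2], [1, 3, 3, 3, 1, 3, 3, 3], [2, 1, 2, 1, 3, 1, 2, 1, 3, 1, 2, 1, 2, 1, 3, 1, 2, 1, 3, 1, 2, 1, 3, 1, 2, 5, 4, 5, 4, 6]]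
def BR : List (List ℕ) := BR_0
set_option maxRecDepth 10000000 in
noncomputable def rt : RT := (.node 57 (.node 28 (.node 14 (.node 7 (.node 3 (.node 1 (.leaf 0 0 []) (.node 2 (.leaf 2 9 [1, 2, 1, 3, 1, 2, 1, 2, 1, 3, 6, 2, 1, 3, 1, 2, 1, 3, 1, 3]) (.leaf 3 1 [2, 2, 2]))) (.node 5 (.node 4 (.leaf 9 6 [2, 2, 1, 2, 2, 2, 1, 2]) (.leaf 2 19 [6, 2, 1, 3, 1, 2, 1, 3, 1, 3, 1, 2, 1, 3, 1, 2, 1, 2, 1, 3])) (.node 6 (.leaf 6 6 [1, 3, 1, 3, 1, 3, 1, 3, 1, 3, 1, 3, 1, 3]) (.leaf 1 1 [4, 1])))) (.node 10 (.node 8 (.leaf 8 17 [3, 1, 3, 3, 1, 3, 3, 1, 3, 3, 1, 3, 3, 1, 3, 3, 1, 3, 3, 1, 3]) (.node 9 (.leaf 6 11 [3, 1, 3, 1, 3, 1, 3, 1, 3, 1, 3, 1, 3, 1]) (.leaf 6 5 [3, 1, 3, 1, 3, 1, 3, 1, 3, 1, 3, 1, 3, 1]))) (.node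 12 (.node 11 (.leaf 8 7 [3, 3, 1, 3, 3, 1, 3, 3, 1, 3, 3, 1, 3, 3, 1, 3, 3, 1, 3, 3, 1]) (.leaf 9 5 [2, 2, 2, 1, 2, 2, 2, 1])) (.node 13 (.leaf 9 7 [2, 1, 2, 2, 2, 1, 2, 2]) (.leaf 1 0 [1, 4]))))) (.node 21 (.node 17 (.node 15 (.leaf 7 13 [2, 2, 1, 2, 2, 1, 2, 2, 1, 2, 2, 1, 2, 2, 1, 2, 2, 1, 2, 2, 1]) (.node 16 (.leaf 5 8 [1, 2, 1, 2, 1, 2, 1, 2, 1, 2, 1, 2, 1, 2]) (.leaf 5 7 [2, 1, 2, 1, 2, 1, 2, 1, 2, 1, 2, 1, 2, 1]))) (.node 19 (.node 18 (.leaf 7 16 [2, 2, 1, 2, 2, 1, 2, 2, 1, 2, 2, 1, 2, 2, 1, 2, 2, 1, 2, 2, 1]) (.leaf 11 12 [2, 1, 3, 1, 2, 1, 3, 1, 2, 1, 3, 1, 2, 5, 4, 5, 4, 6, 2, 1, 2, 1, 3, 1, 2, 1, 3, 1, 2, 1])) (.node 20 (.leaf 11 27 [5, 4, 6, 2, 1, 2, 1, 3, 1, 2, 1, 3, 1, 2, 1, 2, 1, 3, 1, 2,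 1, 3, 1, 2, 1, 3, 1, 2, 5, 4]) (.leaf 11 25 [5, 4, 5, 4, 6, 2, 1, 2, 1, 3, 1, 2, 1, 3, 1, 2, 1, 2, 1, 3, 1, 2, 1, 3, 1, 2, 1, 3, 1, 2])))) (.node 24 (.node 22 (.leaf 11 11 [1, 2, 1, 3, 1, 2, 1, 3, 1, 2, 1, 3, 1, 2, 5, 4, 5, 4, 6, 2, 1, 2, 1, 3, 1, 2, 1, 3, 1, 2]) (.node 23 (.leaf 5 6 [1, 2, 1, 2, 1, 2, 1, 2, 1, 2, 1, 2, 1, 2]) (.leaf 7 18 [1, 2, 2, 1, 2, 2, 1, 2, 2, 1, 2, 2, 1, 2, 2, 1, 2, 2, 1, 2, 2]))) (.node 26 (.node 25 (.leaf 11 29 [6, 2, 1, 2, 1, 3, 1, 2, 1, 3, 1, 2, 1, 2, 1, 3, 1, 2, 1, 3, 1, 2, 1, 3, 1, 2, 5, 4, 5, 4]) (.leaf 11 23 [1, 2, 5, 4, 5, 4, 6, 2, 1, 2, 1, 3, 1, 2, 1, 3, 1, 2, 1, 2, 1, 3, 1, 2, 1, 3, 1, 2, 1, 3])) (.node 27 (.leaf 11 9 [1, 2, 1, 2, 1, 3, 1, 2, 1, 3, 1, 2, 1, 3, 1, 2, 5,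 4, 5, 4, 6, 2, 1, 2, 1, 3, 1, 2, 1, 3]) (.leaf 6 10 [1, 3, 1, 3, 1, 3, 1, 3, 1, 3, 1, 3, 1, 3])))))) (.node 42 (.node 35 (.node 31 (.node 29 (.leaf 11 28 [4, 6, 2, 1, 2, 1, 3, 1, 2, 1, 3, 1, 2, 1, 2, 1, 3, 1, 2, 1, 3, 1, 2, 1, 3, 1, 2, 5, 4, 5]) (.node 30 (.leaf 2 13 [1, 2, 1, 2, 1, 3, 6, 2, 1, 3, 1, 2, 1, 3, 1, 3, 1, 2, 1, 3]) (.leaf 5 11 [2, 1, 2, 1, 2, 1, 2, 1, 2, 1, 2, 1, 2, 1]))) (.node 33 (.node 32 (.leaf 6 1 [3, 1, 3, 1, 3, 1, 3, 1, 3, 1, 3, 1, 3, 1]) (.leaf 7 2 [2, 1, 2, 2, 1, 2, 2, 1, 2, 2, 1, 2, 2, 1, 2, 2, 1, 2, 2, 1, 2])) (.node 34 (.leaf 11 15 [1, 2, 1, 3, 1, 2, 1, 3, 1, 2, 5, 4, 5, 4, 6, 2, 1, 2, 1, 3, 1, 2, 1, 3, 1, 2, 1, 2, 1, 3]) (.leaf 2 8 [3, 1, 2, 1, 3, 1, 2, 1, 2, 1, 3, 6, 2, 1, 3,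 1, 2, 1, 3, 1])))) (.node 38 (.node 36 (.leaf 6 3 [3, 1, 3, 1, 3, 1, 3, 1, 3, 1, 3, 1, 3, 1]) (.node 37 (.leaf 7 5 [2, 1, 2, 2, 1, 2, 2, 1, 2, 2, 1, 2, 2, 1, 2, 2, 1, 2, 2, 1, 2]) (.leaf 7 19 [2, 2, 1, 2, 2, 1, 2, 2, 1, 2, 2, 1, 2, 2, 1, 2, 2, 1, 2, 2, 1]))) (.node 40 (.node 39 (.leaf 8 12 [1, 3, 3, 1, 3, 3, 1, 3, 3, 1, 3, 3, 1, 3, 3, 1, 3, 3, 1, 3, 3]) (.leaf 2 15 [1, 2, 1, 3, 6, 2, 1, 3, 1, 2, 1, 3, 1, 3, 1, 2, 1, 3, 1, 2])) (.node 41 (.leaf 2 18 [3, 6, 2, 1, 3, 1, 2, 1, 3, 1, 3, 1, 2, 1, 3, 1, 2, 1, 2, 1]) (.leaf 11 14 [3, 1, 2, 1, 3, 1, 2, 1, 3, 1, 2, 5, 4, 5, 4, 6, 2, 1, 2, 1, 3, 1, 2, 1, 3, 1, 2, 1, 2, 1]))))) (.node 49 (.node 45 (.node 43 (.leaf 5 9 [2, 1, 2, 1, 2, 1, 2, 1, 2, 1, 2, 1, 2, 1]) (.node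 44 (.leaf 7 4 [2, 2, 1, 2, 2, 1, 2, 2, 1, 2, 2, 1, 2, 2, 1, 2, 2, 1, 2, 2, 1]) (.leaf 8 13 [3, 3, 1, 3, 3, 1, 3, 3, 1, 3, 3, 1, 3, 3, 1, 3, 3, 1, 3, 3, 1]))) (.node 47 (.node 46 (.leaf 7 11 [2, 1, 2, 2, 1, 2, 2, 1, 2, 2, 1, 2, 2, 1, 2, 2, 1, 2, 2, 1, 2]) (.leaf 4 1 [3, 3, 3])) (.node 48 (.leaf 6 4 [1, 3, 1, 3, 1, 3, 1, 3, 1, 3, 1, 3, 1, 3]) (.leaf 11 6 [2, 1, 3, 1, 2, 1, 2, 1, 3, 1, 2, 1, 3, 1, 2, 1, 3, 1, 2, 5, 4, 5, 4, 6, 2, 1, 2, 1, 3, 1])))) (.node 53 (.node 51 (.node 50 (.leaf 11 26 [4, 5, 4, 6, 2, 1, 2, 1, 3, 1, 2, 1, 3, 1, 2, 1, 2, 1, 3, 1, 2, 1, 3, 1, 2, 1, 3, 1, 2, 5]) (.leaf 2 2 [3, 1, 2, 1, 3, 1, 3, 1, 2, 1, 3, 1, 2, 1, 2, 1, 3, 6, 2, 1])) (.node 52 (.leaf 2 14 [2, 1, 2, 1, 3, 6, 2, 1, 3, 1,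 2, 1, 3, 1, 3, 1, 2, 1, 3, 1]) (.leaf 5 13 [2, 1, 2, 1, 2, 1, 2, 1, 2, 1, 2, 1, 2, 1]))) (.node 55 (.node 54 (.leaf 8 8 [3, 1, 3, 3, 1, 3, 3, 1, 3, 3, 1, 3, 3, 1, 3, 3, 1, 3, 3, 1, 3]) (.leaf 4 2 [3, 3, 3])) (.node 56 (.leaf 6 9 [3, 1, 3, 1, 3, 1, 3, 1, 3, 1, 3, 1, 3, 1]) (.leaf 8 3 [1, 3, 3, 1, 3, 3, 1, 3, 3, 1, 3, 3, 1, 3, 3, 1, 3, 3, 1, 3, 3]))))))) (.node 86 (.node 71 (.node 64 (.node 60 (.node 58 (.leaf 11 20 [2, 1, 3, 1, 2, 5, 4, 5, 4, 6, 2, 1, 2, 1, 3, 1, 2, 1, 3, 1, 2, 1, 2, 1, 3, 1, 2, 1, 3, 1]) (.node 59 (.leaf 2 3 [1, 2, 1, 3, 1, 3, 1, 2, 1, 3, 1, 2, 1, 2, 1, 3, 6, 2, 1, 3]) (.leaf 2 4 [2, 1, 3, 1, 3, 1, 2, 1, 3, 1, 2, 1, 2, 1, 3, 6, 2, 1, 3, 1]))) (.node 62 (.node 61 (.leaf 5 10 [1, 2, 1, 2,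 1, 2, 1, 2, 1, 2, 1, 2, 1, 2]) (.leaf 2 16 [2, 1, 3, 6, 2, 1, 3, 1, 2, 1, 3, 1, 3, 1, 2, 1, 3, 1, 2, 1])) (.node 63 (.leaf 6 7 [3, 1, 3, 1, 3, 1, 3, 1, 3, 1, 3, 1, 3, 1]) (.leaf 7 10 [2, 2, 1, 2, 2, 1, 2, 2, 1, 2, 2, 1, 2, 2, 1, 2, 2, 1, 2, 2, 1])))) (.node 67 (.node 65 (.leaf 11 7 [1, 3, 1, 2, 1, 2, 1, 3, 1, 2, 1, 3, 1, 2, 1, 3, 1, 2, 5, 4, 5, 4, 6, 2, 1, 2, 1, 3, 1, 2]) (.node 66 (.leaf 8 18 [1, 3, 3, 1, 3, 3, 1, 3, 3, 1, 3, 3, 1, 3, 3, 1, 3, 3, 1, 3, 3]) (.leaf 2 10 [2, 1, 3, 1, 2, 1, 2, 1, 3, 6, 2, 1, 3, 1, 2, 1, 3, 1, 3, 1]))) (.node 69 (.node 68 (.leaf 11 13 [1, 3, 1, 2, 1, 3, 1, 2, 1, 3, 1, 2, 5, 4, 5, 4, 6, 2, 1, 2, 1, 3, 1, 2, 1, 3, 1, 2, 1, 2]) (.leaf 6 13 [3, 1, 3, 1, 3, 1, 3, 1, 3, 1, 3, 1,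 3, 1])) (.node 70 (.leaf 8 11 [3, 1, 3, 3, 1, 3, 3, 1, 3, 3, 1, 3, 3, 1, 3, 3, 1, 3, 3, 1, 3]) (.leaf 2 1 [1, 3, 1, 2, 1, 3, 1, 3, 1, 2, 1, 3, 1, 2, 1, 2, 1, 3, 6, 2]))))) (.node 78 (.node 74 (.node 72 (.leaf 7 7 [2, 2, 1, 2, 2, 1, 2, 2, 1, 2, 2, 1, 2, 2, 1, 2, 2, 1, 2, 2, 1]) (.node 73 (.leaf 7 8 [2, 1, 2, 2, 1, 2, 2, 1, 2, 2, 1, 2, 2, 1, 2, 2, 1, 2, 2, 1, 2]) (.leaf 11 8 [3, 1, 2, 1, 2, 1, 3, 1, 2, 1, 3, 1, 2, 1, 3, 1, 2, 5, 4, 5, 4, 6, 2, 1, 2, 1, 3, 1, 2, 1]))) (.node 76 (.node 75 (.leaf 2 17 [1, 3, 6, 2, 1, 3, 1, 2, 1, 3, 1, 3, 1, 2, 1, 3, 1, 2, 1, 2]) (.leaf 11 22 [3, 1, 2, 5, 4, 5, 4, 6, 2, 1, 2, 1, 3, 1, 2, 1, 3, 1, 2, 1, 2, 1, 3, 1, 2, 1, 3, 1, 2, 1])) (.node 77 (.leaf 3 2 [2, 2, 2]) (.leaf 5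 4 [1, 2, 1, 2, 1, 2, 1, 2, 1, 2, 1, 2, 1, 2])))) (.node 82 (.node 80 (.node 79 (.leaf 7 0 [1, 2, 2, 1, 2, 2, 1, 2, 2, 1, 2, 2, 1, 2, 2, 1, 2, 2, 1, 2, 2]) (.leaf 11 19 [1, 2, 1, 3, 1, 2, 5, 4, 5, 4, 6, 2, 1, 2, 1, 3, 1, 2, 1, 3, 1, 2, 1, 2, 1, 3, 1, 2, 1, 3])) (.node 81 (.leaf 6 8 [1, 3, 1, 3, 1, 3, 1, 3, 1, 3, 1, 3, 1, 3]) (.leaf 2 7 [1, 3, 1, 2, 1, 3, 1, 2, 1, 2, 1, 3, 6, 2, 1, 3, 1, 2, 1, 3]))) (.node 84 (.node 83 (.leaf 2 6 [3, 1, 3, 1, 2, 1, 3, 1, 2, 1, 2, 1, 3, 6, 2, 1, 3, 1, 2, 1]) (.leaf 2 0 [2, 1, 3, 1, 2, 1, 3, 1, 3, 1, 2, 1, 3, 1, 2, 1, 2, 1, 3, 6])) (.node 85 (.leaf 2 12 [3, 1, 2, 1, 2, 1, 3, 6, 2, 1, 3, 1, 2, 1, 3, 1, 3, 1, 2, 1]) (.leaf 11 3 [1, 3, 1, 2, 1, 3, 1, 2, 1, 2, 1, 3, 1, 2, 1, 3,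 1, 2, 1, 3, 1, 2, 5, 4, 5, 4, 6, 2, 1, 2])))))) (.node 100 (.node 93 (.node 89 (.node 87 (.leaf 8 10 [3, 3, 1, 3, 3, 1, 3, 3, 1, 3, 3, 1, 3, 3, 1, 3, 3, 1, 3, 3, 1]) (.node 88 (.leaf 7 15 [1, 2, 2, 1, 2, 2, 1, 2, 2, 1, 2, 2, 1, 2, 2, 1, 2, 2, 1, 2, 2]) (.leaf 5 5 [2, 1, 2, 1, 2, 1, 2, 1, 2, 1, 2, 1, 2, 1]))) (.node 91 (.node 90 (.leaf 11 16 [2, 1, 3, 1, 2, 1, 3, 1, 2, 5, 4, 5, 4, 6, 2, 1, 2, 1, 3, 1, 2, 1, 3, 1, 2, 1, 2, 1, 3, 1]) (.leaf 2 11 [1, 3, 1, 2, 1, 2, 1, 3, 6, 2, 1, 3, 1, 2, 1, 3, 1, 3, 1, 2])) (.node 92 (.leaf 11 2 [2, 1, 3, 1, 2, 1, 3, 1, 2, 1, 2, 1, 3, 1, 2, 1, 3, 1, 2, 1, 3, 1, 2, 5, 4, 5, 4, 6, 2, 1]) (.leaf 7 9 [1, 2, 2, 1, 2, 2, 1, 2, 2, 1, 2, 2, 1, 2, 2, 1, 2, 2, 1, 2, 2])))) (.node 96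 (.node 94 (.leaf 11 17 [1, 3, 1, 2, 1, 3, 1, 2, 5, 4, 5, 4, 6, 2, 1, 2, 1, 3, 1, 2, 1, 3, 1, 2, 1, 2, 1, 3, 1, 2]) (.node 95 (.leaf 6 12 [1, 3, 1, 3, 1, 3, 1, 3, 1, 3, 1, 3, 1, 3]) (.leaf 7 17 [2, 1, 2, 2, 1, 2, 2, 1, 2, 2, 1, 2, 2, 1, 2, 2, 1, 2, 2, 1, 2]))) (.node 98 (.node 97 (.leaf 2 5 [1, 3, 1, 3, 1, 2, 1, 3, 1, 2, 1, 2, 1, 3, 6, 2, 1, 3, 1, 2]) (.leaf 7 20 [2, 1, 2, 2, 1, 2, 2, 1, 2, 2, 1, 2, 2, 1, 2, 2, 1, 2, 2, 1, 2])) (.node 99 (.leaf 11 10 [2, 1, 2, 1, 3, 1, 2, 1, 3, 1, 2, 1, 3, 1, 2, 5, 4, 5, 4, 6, 2, 1, 2, 1, 3, 1, 2, 1, 3, 1]) (.leaf 11 4 [3, 1, 2, 1, 3, 1, 2, 1, 2, 1, 3, 1, 2, 1, 3, 1, 2, 1, 3, 1, 2, 5, 4, 5, 4, 6, 2, 1, 2, 1]))))) (.node 107 (.node 103 (.node 101 (.leaf 8 2 [3, 1, 3, 3,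 1, 3, 3, 1, 3, 3, 1, 3, 3, 1, 3, 3, 1, 3, 3, 1, 3]) (.node 102 (.leaf 11 24 [2, 5, 4, 5, 4, 6, 2, 1, 2, 1, 3, 1, 2, 1, 3, 1, 2, 1, 2, 1, 3, 1, 2, 1, 3, 1, 2, 1, 3, 1]) (.leaf 11 21 [1, 3, 1, 2, 5, 4, 5, 4, 6, 2, 1, 2, 1, 3, 1, 2, 1, 3, 1, 2, 1, 2, 1, 3, 1, 2, 1, 3, 1, 2]))) (.node 105 (.node 104 (.leaf 8 14 [3, 1, 3, 3, 1, 3, 3, 1, 3, 3, 1, 3, 3, 1, 3, 3, 1, 3, 3, 1, 3]) (.leaf 10 6 [3, 3, 1, 3, 3, 3, 1, 3])) (.node 106 (.leaf 11 5 [1, 2, 1, 3, 1, 2, 1, 2, 1, 3, 1, 2, 1, 3, 1, 2, 1, 3, 1, 2, 5, 4, 5, 4, 6, 2, 1, 2, 1, 3]) (.leaf 6 0 [1, 3, 1, 3, 1, 3, 1, 3, 1, 3, 1, 3, 1, 3])))) (.node 111 (.node 109 (.node 108 (.leaf 11 0 [2, 1, 2, 1, 3, 1, 2, 1, 3, 1, 2, 1, 2, 1, 3, 1, 2, 1, 3, 1, 2, 1, 3, 1, 2, 5, 4,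 5, 4, 6]) (.leaf 5 3 [2, 1, 2, 1, 2, 1, 2, 1, 2, 1, 2, 1, 2, 1])) (.node 110 (.leaf 8 4 [3, 3, 1, 3, 3, 1, 3, 3, 1, 3, 3, 1, 3, 3, 1, 3, 3, 1, 3, 3, 1]) (.leaf 6 2 [1, 3, 1, 3, 1, 3, 1, 3, 1, 3, 1, 3, 1, 3]))) (.node 113 (.node 112 (.leaf 8 16 [3, 3, 1, 3, 3, 1, 3, 3, 1, 3, 3, 1, 3, 3, 1, 3, 3, 1, 3, 3, 1]) (.leaf 5 2 [1, 2, 1, 2, 1, 2, 1, 2, 1, 2, 1, 2, 1, 2])) (.node 114 (.leaf 8 0 [1, 3, 3, 1, 3, 3, 1, 3, 3, 1, 3, 3, 1, 3, 3, 1, 3, 3, 1, 3, 3]) (.leaf 11 1 [1, 2, 1, 3, 1, 2, 1, 3, 1, 2, 1, 2, 1, 3, 1, 2, 1, 3, 1, 2, 1, 3, 1, 2, 5, 4, 5, 4, 6, 2]))))))))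

theorem b0 : allR (guardB 23 (blk fc sc rt.get Cfsg.Agent.Lib.Helper3.J1o.INV isH)) 5 0 = true := by decide +kernel
theorem c0 : allR (guardB 49 (cblk fc nc cc 5888 1540 79228162514264337593543950336 gens)) 5 0 = true := by decide +kernel
theorem c1 : allR (guardB 49 (cblk fc nc cc 5888 1540 79228162514264337593543950336 gens)) 5 32 = true := by decide +kernel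

theorem chkAll : ∀ j < 23, blk fc sc rt.get Cfsg.Agent.Lib.Helper3.J1o.INV isH j = true :=
  guardB_spec (D := 5) b0 (by norm_num)

theorem clAll : ∀ jb < 49, cblk fc nc cc (256 * 23) 1540 79228162514264337593543950336 gens jb = true :=
  guardB_spec (D := 6) (allR_join c0 c1 (by norm_num)) (by norm_num)

theorem hid_0 : BR_0.all (wordId (ntOf Cfsg.Agent.Lib.Helper3.J1o.ntl) 11) = true := by decide +kernel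
theorem hid : BR.all (wordId (ntOf Cfsg.Agent.Lib.Helper3.J1o.ntl) 11) = true := by
  simp only [BR, List.all_append, hid_0, Bool.and_self]

theorem card_eq : Nat.card (lgrp (vL Cfsg.Agent.Lib.Helper3.J1o.ntl Cfsg.Agent.Lib.Helper3.J1o.deg) gens) = 1540 * Nat.card (lgrp (vL Cfsg.Agent.Lib.Helper3.J1o.ntl Cfsg.Agent.Lib.Helper3.J1o.deg) hl) :=
  Cfsg.Agent.Lib.Helper3.J1o.setup.level gens hl dl BR (by decide +kernel) (by decide +kernel) hid (by decide +kernel)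
    (by decide +kernel) rt (by decide +kernel) isH (fun l h => of_decide_eq_true h) fc sc nc cc 23 49 1540 79228162514264337593543950336
    (by norm_num) (by norm_num) (by decide +kernel) (by decide) chkAll clAll
    0 0 25 (by norm_num [Cfsg.Agent.Lib.Helper3.J1o.deg]) (by norm_num [Cfsg.Agent.Lib.Helper3.J1o.deg]) (by decide +kernel) (by decide +kernel)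

theorem ub {M : Type*} [Group M] (w : ℕ → M) (h0 : w 0 = 1) (hinv : ∀ l, w (invL Cfsg.Agent.Lib.Helper3.J1o.INV l) = (w l)⁻¹)
    (hBR : ∀ r ∈ BR, (r.map w).prod = 1)
    (hdlr : ∀ r ∈ dl.map (fun p => p.1 ++ [p.2]), (r.map w).prod = 1) (N : ℕ) (hN : Bd w hl N) :
    Bd w gens (1540 * N) :=
  level_bd w Cfsg.Agent.Lib.Helper3.J1o.INV h0 hinv gens hl dl BR (by decide +kernel) hdlr hBR (by decide +kernel) (by decide +kernel)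
    rt (by decide +kernel) isH (fun l h => of_decide_eq_true h) fc sc nc cc 23 49 1540 79228162514264337593543950336
    (by norm_num) (by norm_num) (by decide +kernel) (by decide) chkAll clAll N hN

end Cfsg.Agent.Lib.Helper3.J1o.L1
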